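import Groth.Prelude.Def_Red2
import Groth.Agent.AffPts.Group

/-! Points of the additive group over an arbitrary base: global functions, with addition. -/

set_option autoImplicit false
set_option backward.isDefEq.respectTransparency false
set_option backward.defeqAttrib.useBackward true
set_option backward.isDefEq.respectTransparency.types false

universe u
open CategoryTheory Limits MonoidalCategory CartesianMonoidalCategory MonObj GrpObj AlgebraicGeometry
open scoped TensorProduct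

namespace Groth.Agent.GaPoints

/-- The coordinate ring of the additive group over the integers. -/
abbrev A : Type u := SymmetricAlgebra (ULift.{u} ℤ) (ULift.{u} ℤ)

/-- The generator. -/
noncomputable abbrev gen : A.{u} := SymmetricAlgebra.ι (ULift.{u} ℤ) (ULift.{u} ℤ) (ULift.up 1)

/-- The ring map of a morphism into an affine scheme. -/
noncomputable def ringMap {Y : Scheme.{u}} {R : CommRingCat.{u}} (q : Y ⟶ Spec R) : R →+* Γ(Y, ⊤) :=
  ((Scheme.ΓSpecIso R).inv ≫ q.appTop).hom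

theorem ringMap_comp_SpecMap {Y : Scheme.{u}} {R R' : CommRingCat.{u}} (φ : R' ⟶ R) (q : Y ⟶ Spec R) (r : R') :
    ringMap (q ≫ Spec.map φ) r = ringMap q (φ r) := by
  simp only [ringMap, Scheme.Hom.comp_appTop, ← Category.assoc]
  rw [← Scheme.ΓSpecIso_inv_naturality, Category.assoc, CommRingCat.comp_apply]

theorem ringMap_injective {Y : Scheme.{u}} {R : CommRingCat.{u}} {q q' : Y ⟶ Spec R} (h : ringMap q = ringMap q') :
    q = q' :=
  ext_of_isAffine ((cancel_epi (Scheme.ΓSpecIso R).inv).mp (CommRingCat.hom_ext h))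

theorem exists_ringMap {Y : Scheme.{u}} {R : CommRingCat.{u}} (ψ : R →+* Γ(Y, ⊤)) :
    ∃ q : Y ⟶ Spec R, ringMap q = ψ := by
  refine ⟨Y.toSpecΓ ≫ Spec.map (CommRingCat.ofHom ψ), RingHom.ext fun r => ?_⟩
  rw [ringMap_comp_SpecMap]
  simp [ringMap, Scheme.toSpecΓ_appTop]

theorem gaCoord_eq {Y : Scheme.{u}} (q : Y ⟶ Spec (CommRingCat.of A.{u})) :
    q.appTop Red.gaCoord = ringMap q gen := rfl

theorem ringMap_ext {Y : Scheme.{u}} {q q' : Y ⟶ Spec (CommRingCat.of A.{u})}
    (h : ringMap q gen = ringMap q' gen) : q = q' := by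
  refine ringMap_injective ?_
  exact (Groth.Agent.AffPts.existsUnique_sym (ringMap q gen)).unique rfl h.symm

variable {S : Scheme.{u}}

theorem gaFn_comp {X X' : Over S} (g : X' ⟶ X) (x : X ⟶ Red.Ga S) :
    Red.gaFn (g ≫ x) = g.left.appTop (Red.gaFn x) := by
  simp [Red.gaFn]

theorem gaFn_injective {X : Over S} : Function.Injective (Red.gaFn (S := S) (X := X)) := by
  intro x y h
  refine Over.OverMorphism.ext (pullback.hom_ext (ringMap_ext h) ?_)
  exact (Over.w x).trans (Over.w y).symm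

theorem gaFn_surjective {X : Over S} : Function.Surjective (Red.gaFn (S := S) (X := X)) := by
  intro b
  obtain ⟨φ, hφ, -⟩ := Groth.Agent.AffPts.existsUnique_sym b
  obtain ⟨q, hq⟩ := exists_ringMap (R := CommRingCat.of A.{u}) φ
  refine ⟨Over.homMk (pullback.lift q X.hom (specULiftZIsTerminal.hom_ext _ _)) (pullback.lift_snd _ _ _), ?_⟩
  change ringMap ((pullback.lift q X.hom _) ≫ pullback.fst _ _) gen = b
  rw [pullback.lift_fst, hq]
  exact hφ

/-- Addition on points of the additive group over the integers. -/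
theorem gaZ_mul {Y : Over (Spec (CommRingCat.of (ULift.{u} ℤ)))} (x y : Y ⟶ Red.GaZ) :
    ringMap (R := CommRingCat.of A.{u}) (x * y).left gen =
      ringMap (R := CommRingCat.of A.{u}) x.left gen + ringMap (R := CommRingCat.of A.{u}) y.left gen := by
  let j₁ : CommRingCat.of A.{u} ⟶ CommRingCat.of (A.{u} ⊗[ULift.{u} ℤ] A.{u}) :=
    CommRingCat.ofHom Algebra.TensorProduct.includeLeftRingHom
  let j₂ : CommRingCat.of A.{u} ⟶ CommRingCat.of (A.{u} ⊗[ULift.{u} ℤ] A.{u}) :=
    CommRingCat.ofHom (R := A.{u}) (S := A.{u} ⊗[ULift.{u} ℤ] A.{u})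
      (RingHomClass.toRingHom (Algebra.TensorProduct.includeRight : A.{u} →ₐ[ULift.{u} ℤ] A.{u} ⊗[ULift.{u} ℤ] A.{u}))
  let m : Y.left ⟶ Spec (CommRingCat.of (A.{u} ⊗[ULift.{u} ℤ] A.{u})) :=
    (CartesianMonoidalCategory.lift x y).left ≫ (pullbackSpecIso (ULift.{u} ℤ) A.{u} A.{u}).hom
  have h₁ : m ≫ Spec.map j₁ = x.left := by
    simp only [m, j₁, Category.assoc]
    erw [pullbackSpecIso_hom_fst]
    simp
    exact pullback.lift_fst _ _ _
  have h₂ : m ≫ Spec.map j₂ = y.left := by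
    simp only [m, j₂, Category.assoc]
    erw [pullbackSpecIso_hom_snd]
    simp
    exact pullback.lift_snd _ _ _
  have h₀ : (x * y).left = m ≫ Spec.map (CommRingCat.ofHom (Bialgebra.comulAlgHom (ULift.{u} ℤ) A.{u}).toRingHom) := by
    rw [Hom.mul_def, Over.comp_left]
    erw [mul_spec_asOver_spec_left]
    simp [m]
  rw [h₀, ← h₁, ← h₂, ringMap_comp_SpecMap, ringMap_comp_SpecMap, ringMap_comp_SpecMap, ← map_add]
  congr 1
  change Bialgebra.comulAlgHom (ULift.{u} ℤ) A.{u} gen = gen ⊗ₜ[ULift.{u} ℤ] 1 + 1 ⊗ₜ[ULift.{u} ℤ] gen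
  exact SymmetricAlgebra.comul_ι _ _ _

theorem gaFn_mul {X : Over S} (x y : X ⟶ Red.Ga S) : Red.gaFn (x * y) = Red.gaFn x + Red.gaFn y := by
  let t := IsTerminal.from specULiftZIsTerminal S
  let adj := Over.mapPullbackAdj t
  obtain ⟨a, rfl⟩ := (adj.homEquiv X Red.GaZ).surjective x
  obtain ⟨b, rfl⟩ := (adj.homEquiv X Red.GaZ).surjective y
  have hm : adj.homEquiv X Red.GaZ (a * b) = adj.homEquiv X Red.GaZ a * adj.homEquiv X Red.GaZ b := by
    simp only [Adjunction.homEquiv_unit, Functor.map_mul, MonObj.comp_mul]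
  have key : ∀ c : (Over.map t).obj X ⟶ Red.GaZ, Red.gaFn (adj.homEquiv X Red.GaZ c) = ringMap (R := CommRingCat.of A.{u}) c.left gen := by
    intro c
    conv_rhs => rw [← (adj.homEquiv X Red.GaZ).symm_apply_apply c, Adjunction.homEquiv_counit]
    simp [adj, Red.gaFn]
    rfl
  rw [← hm, key, key, key]
  exact gaZ_mul a b

theorem gaFn_one {X : Over S} : Red.gaFn (1 : X ⟶ Red.Ga S) = 0 := by
  have h := gaFn_mul (1 : X ⟶ Red.Ga S) 1
  rw [show (1 : X ⟶ Red.Ga S) * 1 = 1 from _root_.one_mul (1 : X ⟶ Red.Ga S)] at h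
  simpa using h

/-- Points of the additive group over `S`. -/
noncomputable def gaFnEquiv (X : Over S) : (X ⟶ Red.Ga S) ≃ Γ(X.left, ⊤) :=
  Equiv.ofBijective _ ⟨gaFn_injective, gaFn_surjective⟩

end Groth.Agent.GaPoints
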